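import Cfsg.Agent.H273.PalfyKP

/-!
# The field lemma for Lemma Z of S4921
-/

set_option autoImplicit false

namespace Cfsg.Agent.H463.Deg

open Cfsg.Agent.H273.PalfyKP Cfsg.Agent.H273.Palfy

universe u v

section

variable {H : Type u} [Group H] {V : Type v} [CommGroup V] [MulDistribMulAction H V]

/-- the action on the additive version -/
def T (H : Type u) [Group H] (V : Type v) [CommGroup V] [MulDistribMulAction H V] :
    H →* AddMonoid.End (Additive V) where
  toFun := fun h => MonoidHom.toAdditive (MulDistribMulAction.toMonoidHom V h)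
  map_one' := by
    ext w
    exact congrArg Additive.ofMul (one_smul H (Additive.toMul w))
  map_mul' := by
    intro a b
    ext w
    exact congrArg Additive.ofMul (mul_smul a b (Additive.toMul w))

theorem T_apply (h : H) (v : V) : T H V h (Additive.ofMul v) = Additive.ofMul (h • v) := rfl

theorem T_inv_mul (h : H) : T H V h⁻¹ * T H V h = 1 := by rw [← map_mul, inv_mul_cancel, map_one]

theorem T_mul_inv (h : H) : T H V h * T H V h⁻¹ = 1 := by rw [← map_mul, mul_inv_cancel, map_one]

/-- the ring generated by `ζ` -/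
def K (V : Type v) [CommGroup V] [MulDistribMulAction H V] (ζ : H) : Subring (AddMonoid.End (Additive V)) :=
  Subring.closure (T H V '' (Subgroup.zpowers ζ : Set H))

theorem K_comm_gen (ζ : H) : ∀ x ∈ (T H V '' (Subgroup.zpowers ζ : Set H)), ∀ y ∈ (T H V '' (Subgroup.zpowers ζ : Set H)),
    x * y = y * x := by
  rintro _ ⟨_, ⟨i, rfl⟩, rfl⟩ _ ⟨_, ⟨j, rfl⟩, rfl⟩
  show T H V (ζ ^ i) * T H V (ζ ^ j) = T H V (ζ ^ j) * T H V (ζ ^ i)
  rw [← map_mul, ← map_mul, ← zpow_add, ← zpow_add, add_comm]

theorem mem_K {ζ : H} : T H V ζ ∈ K V ζ := Subring.subset_closure ⟨ζ, Subgroup.mem_zpowers ζ, rfl⟩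

theorem K_commute {ζ : H} {r : AddMonoid.End (Additive V)} (hr : r ∈ K V ζ) : r * T H V ζ = T H V ζ * r := by
  have h1 : K V ζ ≤ Subring.centralizer {T H V ζ} := by
    refine Subring.closure_le.2 ?_
    intro x hx
    rw [SetLike.mem_coe, Subring.mem_centralizer_iff]
    rintro y rfl
    exact K_comm_gen ζ _ ⟨ζ, Subgroup.mem_zpowers ζ, rfl⟩ x hx
  exact (Subring.mem_centralizer_iff.1 (h1 hr) _ rfl).symm

/-- conjugation by an element normalising `⟨ζ⟩` preserves `K` -/
theorem conj_mem_K {ζ α : H} (hα : α * ζ * α⁻¹ ∈ Subgroup.zpowers ζ) {r : AddMonoid.End (Additive V)}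
    (hr : r ∈ K V ζ) : T H V α * r * T H V α⁻¹ ∈ K V ζ := by
  have hz : ∀ x ∈ Subgroup.zpowers ζ, α * x * α⁻¹ ∈ Subgroup.zpowers ζ := by
    rintro _ ⟨i, rfl⟩
    show α * ζ ^ i * α⁻¹ ∈ Subgroup.zpowers ζ
    rw [← conj_zpow]
    exact zpow_mem hα i
  induction hr using Subring.closure_induction with
  | mem x hx =>
    obtain ⟨y, hy, rfl⟩ := hx
    rw [← map_mul, ← map_mul]
    exact Subring.subset_closure ⟨_, hz y hy, rfl⟩
  | zero => rw [mul_zero, zero_mul]; exact zero_mem _
  | one => rw [mul_one, T_mul_inv]; exact one_mem _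
  | add x y _ _ hx hy => rw [mul_add, add_mul]; exact add_mem hx hy
  | neg x _ hx =>
    have h1 : T H V α * -x * T H V α⁻¹ = -(T H V α * x * T H V α⁻¹) := by
      ext w
      show T H V α (-(x (T H V α⁻¹ w))) = -(T H V α (x (T H V α⁻¹ w)))
      exact map_neg _ _
    rw [h1]
    exact neg_mem hx
  | mul x y _ _ hx hy =>
    have h1 : T H V α * (x * y) * T H V α⁻¹ = (T H V α * x * T H V α⁻¹) * (T H V α * y * T H V α⁻¹) := by
      have h2 : (T H V α * x * T H V α⁻¹) * (T H V α * y * T H V α⁻¹) =
          T H V α * x * (T H V α⁻¹ * T H V α) * y * T H V α⁻¹ := by simp only [mul_assoc]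
      rw [h2, T_inv_mul, mul_one]
      simp only [mul_assoc]
    rw [h1]
    exact mul_mem hx hy

/-- nonzero elements of `K` are injective -/
theorem K_injective [Finite V] {ζ : H} (hirr : ∀ U : Subgroup V, (∀ u ∈ U, ζ • u ∈ U) → U = ⊥ ∨ U = ⊤)
    {r : AddMonoid.End (Additive V)} (hr : r ∈ K V ζ) (hr0 : r ≠ 0) {w : Additive V} (hw : r w = 0) : w = 0 := by
  let U : Subgroup V :=
    { carrier := {v | r (Additive.ofMul v) = 0}
      one_mem' := by
        show r (Additive.ofMul 1) = 0
        rw [ofMul_one, map_zero]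
      mul_mem' := by
        intro a b ha hb
        show r (Additive.ofMul (a * b)) = 0
        have ha' : r (Additive.ofMul a) = 0 := ha
        have hb' : r (Additive.ofMul b) = 0 := hb
        rw [ofMul_mul, map_add, ha', hb', add_zero]
      inv_mem' := by
        intro a ha
        show r (Additive.ofMul a⁻¹) = 0
        have ha' : r (Additive.ofMul a) = 0 := ha
        rw [ofMul_inv, map_neg, ha', neg_zero] }
  have hU : ∀ v, v ∈ U ↔ r (Additive.ofMul v) = 0 := fun v => Iff.rfl
  rcases hirr U (by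
    intro v hv
    rw [hU] at hv ⊢
    have h1 : r (Additive.ofMul (ζ • v)) = (r * T H V ζ) (Additive.ofMul v) := rfl
    rw [h1, K_commute hr]
    show T H V ζ (r (Additive.ofMul v)) = 0
    rw [hv, map_zero]) with h | h
  · have h1 : Additive.toMul w ∈ U := (hU _).2 hw
    rw [h, Subgroup.mem_bot] at h1
    exact h1
  · exfalso
    apply hr0
    ext v
    have h1 : Additive.toMul v ∈ U := by rw [h]; trivial
    exact (hU _).1 h1

end

/-- **Field lemma.** -/
theorem field_lemma {H : Type u} [Group H] {V : Type v} [CommGroup V] [Finite V] [Nontrivial V]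
    [MulDistribMulAction H V] (hf : ∀ h : H, (∀ v : V, h • v = v) → h = 1) {ζ : H}
    (hirr : ∀ U : Subgroup V, (∀ u ∈ U, ζ • u ∈ U) → U = ⊥ ∨ U = ⊤)
    (A : Subgroup H) [Finite A] (hA : ∀ α ∈ A, α * ζ * α⁻¹ ∈ Subgroup.zpowers ζ)
    (hc : ∀ α ∈ A, α * ζ = ζ * α → α = 1) {v₀ : V} (hv₀ : v₀ ≠ 1) (hfix : ∀ α ∈ A, α • v₀ = v₀) :
    Nat.card V = Nat.card (fixV A V) ^ Nat.card A := by
  classical
  have hfinE : Finite (AddMonoid.End (Additive V)) := by
    have : Finite (Additive V) := inferInstanceAs (Finite V)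
    exact DFunLike.finite _
  have hfinK : Finite (K V ζ) := inferInstance
  -- commutative ring, domain, field
  let cr : CommRing (K V ζ) :=
    { (inferInstance : Ring (K V ζ)) with
      mul_comm := (Subring.isMulCommutative_closure (K_comm_gen (V := V) ζ)).is_comm.comm }
  have hTinj : ∀ a b : H, T H V a = T H V b → a = b := by
    intro a b hab
    have h1 : a⁻¹ * b = 1 := by
      apply hf
      intro v
      have h2 : Additive.ofMul (a • v) = Additive.ofMul (b • v) := by
        rw [← T_apply, ← T_apply, hab]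
      have h3 : a • v = b • v := Additive.ofMul.injective h2
      rw [mul_smul, ← h3, inv_smul_smul]
    exact inv_mul_eq_one.1 h1
  have hntV : Nontrivial (Additive V) := inferInstanceAs (Nontrivial V)
  have hnt : Nontrivial (K V ζ) := ⟨⟨0, 1, fun h => by
    have h1 : (0 : AddMonoid.End (Additive V)) = 1 := congrArg Subtype.val h
    obtain ⟨w, hw⟩ := exists_ne (0 : Additive V)
    apply hw
    have h2 : (0 : AddMonoid.End (Additive V)) w = (1 : AddMonoid.End (Additive V)) w := by rw [h1]
    exact h2.symm⟩⟩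
  have hnzd : NoZeroDivisors (K V ζ) := ⟨by
    intro a b hab
    by_cases ha : a = 0
    · exact Or.inl ha
    · right
      have ha' : (a : AddMonoid.End (Additive V)) ≠ 0 := fun h => ha (Subtype.ext h)
      apply Subtype.ext
      ext w
      have h1 : (a : AddMonoid.End (Additive V)) * b = 0 := congrArg Subtype.val hab
      have h2 : (a : AddMonoid.End (Additive V)) ((b : AddMonoid.End (Additive V)) w) = 0 := by
        have h3 : ((a : AddMonoid.End (Additive V)) * b) w = 0 := by rw [h1]; rfl
        exact h3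
      exact K_injective hirr a.2 ha' h2⟩
  have hdom : @IsDomain (K V ζ) cr.toCommSemiring.toSemiring := @NoZeroDivisors.to_isDomain (K V ζ) cr.toRing hnt hnzd
  let fld : Field (K V ζ) := (@Finite.isField_of_domain (K V ζ) cr hdom hfinK).toField
  -- the action
  let act : MulSemiringAction A (K V ζ) :=
    { smul := fun α r => ⟨T H V α * r * T H V (α : H)⁻¹, conj_mem_K (hA α α.2) r.2⟩
      one_smul := fun r => by
        apply Subtype.ext
        show T H V ((1 : A) : H) * r * T H V ((1 : A) : H)⁻¹ = r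
        rw [Subgroup.coe_one, inv_one, map_one, one_mul, mul_one]
      mul_smul := fun α β r => by
        apply Subtype.ext
        show T H V ((α * β : A) : H) * r * T H V ((α * β : A) : H)⁻¹ =
          T H V α * (T H V β * r * T H V (β : H)⁻¹) * T H V (α : H)⁻¹
        rw [Subgroup.coe_mul, mul_inv_rev, map_mul, map_mul]
        simp only [mul_assoc]
      smul_zero := fun α => by
        apply Subtype.ext
        show T H V α * ((0 : K V ζ) : AddMonoid.End (Additive V)) * T H V (α : H)⁻¹ = _
        have : ((0 : K V ζ) : AddMonoid.End (Additive V)) = 0 := rfl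
        rw [this, mul_zero, zero_mul]
      smul_add := fun α r s => by
        apply Subtype.ext
        show T H V α * ((r : AddMonoid.End (Additive V)) + s) * T H V (α : H)⁻¹ =
          T H V α * r * T H V (α : H)⁻¹ + T H V α * s * T H V (α : H)⁻¹
        rw [mul_add, add_mul]
      smul_one := fun α => by
        apply Subtype.ext
        show T H V α * ((1 : K V ζ) : AddMonoid.End (Additive V)) * T H V (α : H)⁻¹ = 1
        have : ((1 : K V ζ) : AddMonoid.End (Additive V)) = 1 := rfl
        rw [this, mul_one, T_mul_inv]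
      smul_mul := fun α r s => by
        apply Subtype.ext
        show T H V α * ((r : AddMonoid.End (Additive V)) * s) * T H V (α : H)⁻¹ =
          (T H V α * r * T H V (α : H)⁻¹) * (T H V α * s * T H V (α : H)⁻¹)
        have h2 : (T H V α * (r : AddMonoid.End (Additive V)) * T H V (α : H)⁻¹) * (T H V α * s * T H V (α : H)⁻¹) =
            T H V α * r * (T H V (α : H)⁻¹ * T H V α) * s * T H V (α : H)⁻¹ := by simp only [mul_assoc]
        rw [h2, T_inv_mul, mul_one]
        simp only [mul_assoc] }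
  have hact : ∀ (α : A) (r : K V ζ), ((α • r : K V ζ) : AddMonoid.End (Additive V)) =
      T H V α * r * T H V (α : H)⁻¹ := fun _ _ => rfl
  have hfs : FaithfulSMul A (K V ζ) := ⟨by
    intro α β h
    have h1 := h ⟨T H V ζ, mem_K⟩
    have h2 : T H V α * T H V ζ * T H V (α : H)⁻¹ = T H V β * T H V ζ * T H V (β : H)⁻¹ := congrArg Subtype.val h1
    rw [← map_mul, ← map_mul, ← map_mul, ← map_mul] at h2
    have h3 := hTinj _ _ h2
    have h4 : (β⁻¹ * α : A) = 1 := by
      apply Subtype.ext
      apply hc _ (β⁻¹ * α : A).2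
      show ((β : H)⁻¹ * α) * ζ = ζ * ((β : H)⁻¹ * α)
      calc ((β : H)⁻¹ * α) * ζ = (β : H)⁻¹ * (α * ζ * (α : H)⁻¹) * α := by group
        _ = (β : H)⁻¹ * (β * ζ * (β : H)⁻¹) * α := by rw [h3]
        _ = ζ * ((β : H)⁻¹ * α) := by group
    exact (inv_mul_eq_one.1 h4).symm⟩
  let _ : Fintype A := Fintype.ofFinite A
  -- evaluation
  let ev : K V ζ → V := fun r => Additive.toMul ((r : AddMonoid.End (Additive V)) (Additive.ofMul v₀))
  have hev_inj : Function.Injective ev := by
    intro r s h
    have h1 : (r : AddMonoid.End (Additive V)) (Additive.ofMul v₀) = (s : AddMonoid.End (Additive V)) (Additive.ofMul v₀) := h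
    by_contra hne
    have h2 : (r : AddMonoid.End (Additive V)) - s ≠ 0 := fun h => hne (Subtype.ext (sub_eq_zero.1 h))
    have h3 : ((r : AddMonoid.End (Additive V)) - s) (Additive.ofMul v₀) = 0 := by
      have h4 : ((r : AddMonoid.End (Additive V)) - s) (Additive.ofMul v₀) =
        (r : AddMonoid.End (Additive V)) (Additive.ofMul v₀) - (s : AddMonoid.End (Additive V)) (Additive.ofMul v₀) := rfl
      rw [h4, h1, sub_self]
    exact hv₀ (K_injective hirr ((K V ζ).sub_mem r.2 s.2) h2 h3)
  have hev_surj : Function.Surjective ev := by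
    let U : Subgroup V :=
      { carrier := Set.range ev
        one_mem' := ⟨0, rfl⟩
        mul_mem' := by
          rintro _ _ ⟨r, rfl⟩ ⟨s, rfl⟩
          exact ⟨⟨(r : AddMonoid.End (Additive V)) + s, (K V ζ).add_mem r.2 s.2⟩, rfl⟩
        inv_mem' := by
          rintro _ ⟨r, rfl⟩
          exact ⟨⟨-(r : AddMonoid.End (Additive V)), (K V ζ).neg_mem r.2⟩, rfl⟩ }
    rcases hirr U (by
      rintro _ ⟨r, rfl⟩
      exact ⟨⟨T H V ζ * r, (K V ζ).mul_mem mem_K r.2⟩, rfl⟩) with h | h
    · exfalso
      apply hv₀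
      have h1 : v₀ ∈ U := ⟨⟨1, (K V ζ).one_mem⟩, rfl⟩
      rw [h, Subgroup.mem_bot] at h1
      exact h1
    · intro v
      have h1 : v ∈ U := by rw [h]; trivial
      exact h1
  have hev_smul : ∀ (α : A) (r : K V ζ), ev (α • r) = (α : H) • ev r := by
    intro α r
    show Additive.toMul ((T H V α * r * T H V (α : H)⁻¹) (Additive.ofMul v₀)) = _
    have h1 : (T H V (α : H)⁻¹) (Additive.ofMul v₀) = Additive.ofMul v₀ := by
      rw [T_apply, hfix _ (A.inv_mem α.2)]
    have h2 : (T H V α * (r : AddMonoid.End (Additive V)) * T H V (α : H)⁻¹) (Additive.ofMul v₀) =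
      T H V α ((r : AddMonoid.End (Additive V)) ((T H V (α : H)⁻¹) (Additive.ofMul v₀))) := rfl
    rw [h2, h1]
    rfl
  have hcardK : Nat.card (K V ζ) = Nat.card V := Nat.card_congr (Equiv.ofBijective ev ⟨hev_inj, hev_surj⟩)
  have hcardF : Nat.card (FixedPoints.subfield A (K V ζ)) = Nat.card (fixV A V) := by
    refine Nat.card_congr (Equiv.ofBijective (fun r => ⟨ev r.1, ?_⟩) ⟨?_, ?_⟩)
    · intro α hα
      have h1 := hev_smul ⟨α, hα⟩ r.1
      have h2 : (⟨α, hα⟩ : A) • (r.1 : K V ζ) = r.1 := r.2 ⟨α, hα⟩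
      rw [h2] at h1
      exact h1.symm
    · intro r s h
      exact Subtype.ext (hev_inj (congrArg Subtype.val h))
    · rintro ⟨v, hv⟩
      obtain ⟨r, rfl⟩ := hev_surj v
      refine ⟨⟨r, fun α => hev_inj ?_⟩, rfl⟩
      rw [hev_smul]
      exact hv α α.2
  have hfr := FixedPoints.finrank_eq_card A (K V ζ)
  have h1 := Module.natCard_eq_pow_finrank (K := FixedPoints.subfield A (K V ζ)) (V := K V ζ)
  rw [hfr, hcardK, hcardF] at h1
  rw [h1, Nat.card_eq_fintype_card (α := A)]

end Cfsg.Agent.H463.Deg
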