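import Mathlib
import Cfsg.Agent.Lib.Zsigmondy

/-!
# The arithmetic of Lemma Z of S4921
-/

set_option autoImplicit false

namespace Cfsg.Agent.H463.Deg

theorem cancel_two {x S : ℕ} (hx : 2 ≤ x) (h : S * (x - 1) = x ^ 2 - 1) : S = x + 1 := by
  have h1 : x ^ 2 - 1 = (x + 1) * (x - 1) := by
    have := Nat.sq_sub_sq x 1
    rwa [one_pow] at this
  rw [h1] at h
  exact Nat.eq_of_mul_eq_mul_right (by omega) h

theorem cancel_three {x S : ℕ} (hx : 2 ≤ x) (h : S * (x - 1) = x ^ 3 - 1) : S = x ^ 2 + x + 1 := by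
  obtain ⟨y, rfl⟩ : ∃ y, x = y + 1 := ⟨x - 1, by omega⟩
  have h1 : (y + 1) ^ 3 - 1 = ((y + 1) ^ 2 + (y + 1) + 1) * y := by
    have : (y + 1) ^ 3 = ((y + 1) ^ 2 + (y + 1) + 1) * y + 1 := by ring
    omega
  rw [Nat.add_sub_cancel, h1] at h
  exact Nat.eq_of_mul_eq_mul_right (by omega) h

theorem ex2 {ℓ n a b ca ka S : ℕ} (hℓ : ℓ.Prime) (ha : a.Prime) (hb : b.Prime) (hab : a ≠ b) (hka : 1 ≤ ka)
    (hna : n = ca * a ^ ka) (hbn : b ∣ n) (hn : 0 < n) (hS : S * (ℓ ^ ca - 1) = ℓ ^ n - 1) (hnot : ¬ a ∣ S) :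
    (∃ z, z.Prime ∧ z ∣ S ∧ ∀ m, z ∣ ℓ ^ m - 1 ↔ n / b ∣ m) ∨ (3 ∣ S ∧ ℓ = 2 ∧ n = 6 * b ∧ a = 2) := by
  have hban : ∀ {x : ℕ}, a ∣ x * b → a ∣ x := fun h => by
    rcases ha.dvd_mul.1 h with h | h
    · exact h
    · exact absurd ((Nat.prime_dvd_prime_iff_eq ha hb).1 h) hab
  have han : a ∣ n := by
    rw [hna]
    exact Dvd.dvd.mul_left (dvd_pow_self a (by omega)) _
  obtain ⟨m2, hm2⟩ := hbn
  have hdiv : n / b = m2 := by rw [hm2, Nat.mul_div_cancel_left _ hb.pos]
  rw [hdiv]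
  have hm2' : n = m2 * b := by rw [hm2, mul_comm]
  have hm2pos : 2 ≤ m2 := by
    rcases Nat.lt_or_ge m2 2 with h | h
    · exfalso
      interval_cases m2
      · omega
      · rw [hm2'] at han
        exact ha.one_lt.ne' (Nat.dvd_one.1 (hban han))
    · exact h
  by_cases hex : (m2 = 2 → ¬ ∃ k, ℓ + 1 = 2 ^ k) ∧ ¬ (ℓ = 2 ∧ m2 = 6)
  · left
    obtain ⟨z, hz, hzm, -, -⟩ := Cfsg.Agent.Lib.Zsigmondy.exists_primitive (a := ℓ) (n := m2) hℓ.two_le hm2pos
      hex.1 hex.2
    refine ⟨z, hz, ?_, hzm⟩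
    have h1 : z ∣ ℓ ^ n - 1 := (hzm n).2 ⟨b, hm2'⟩
    rw [← hS] at h1
    refine (hz.dvd_mul.1 h1).resolve_right fun h2 => ?_
    obtain ⟨t, ht⟩ := (hzm ca).1 h2
    rw [ht, hm2', mul_assoc] at hna
    have h3 : b = t * a ^ ka := Nat.eq_of_mul_eq_mul_left (by omega) hna
    have h4 : a ∣ b := by
      rw [h3]
      exact Dvd.dvd.mul_left (dvd_pow_self a (by omega)) _
    exact hab ((Nat.prime_dvd_prime_iff_eq ha hb).1 h4)
  · rw [not_and_or] at hex
    have hka1 : (∀ m : ℕ, n = m * b → ¬ a ^ 2 ∣ m * b) → ka = 1 := by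
      intro h
      by_contra hne
      apply h m2 hm2'
      rw [← hm2', hna]
      exact Dvd.dvd.mul_left (pow_dvd_pow a (by omega)) _
    rcases hex with hex | hex
    · exfalso
      push Not at hex
      obtain ⟨rfl, k, hk⟩ := hex
      have hodd : ¬ 2 ∣ ℓ := by
        intro h
        have h2 := (Nat.prime_dvd_prime_iff_eq Nat.prime_two hℓ).1 h
        subst h2
        rcases k with _ | _ | k
        · omega
        · omega
        · rw [pow_succ, pow_succ] at hk; omega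
      have ha2 : a = 2 := by
        rw [hm2'] at han
        exact (Nat.prime_dvd_prime_iff_eq ha Nat.prime_two).1 (hban han)
      subst ha2
      have hk1 : ka = 1 := hka1 fun m hm h => by
        have h1 : m = 2 := Nat.eq_of_mul_eq_mul_right hb.pos (hm.symm.trans hm2')
        subst h1
        obtain ⟨c, hc⟩ := h
        have h2 : 2 ∣ 1 * b := ⟨c, by omega⟩
        have := hban h2
        omega
      subst hk1
      have hca : ca = b := by omega
      rw [hca, hm2', mul_comm 2 b, pow_mul] at hS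
      have hS' := cancel_two (le_trans hℓ.two_le (Nat.le_self_pow hb.ne_zero ℓ)) hS
      apply hnot
      rw [hS']
      have h1 : ¬ 2 ∣ ℓ ^ b := fun h => hodd (Nat.prime_two.dvd_of_dvd_pow h)
      omega
    · push Not at hex
      obtain ⟨rfl, rfl⟩ := hex
      have ha6 : a = 2 ∨ a = 3 := by
        rw [hm2'] at han
        have h1 := hban han
        rw [show (6 : ℕ) = 2 * 3 by norm_num] at h1
        rcases ha.dvd_mul.1 h1 with h | h
        · exact Or.inl ((Nat.prime_dvd_prime_iff_eq ha Nat.prime_two).1 h)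
        · exact Or.inr ((Nat.prime_dvd_prime_iff_eq ha Nat.prime_three).1 h)
      rcases ha6 with rfl | rfl
      · right
        have hk1 : ka = 1 := hka1 fun m hm h => by
          have h1 : m = 6 := Nat.eq_of_mul_eq_mul_right hb.pos (hm.symm.trans hm2')
          subst h1
          obtain ⟨c, hc⟩ := h
          have h2 : 2 ∣ 3 * b := ⟨c, by omega⟩
          have := hban h2
          omega
        subst hk1
        have hca : ca = 3 * b := by omega
        have hbo : Odd b := hb.odd_of_ne_two (Ne.symm hab)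
        rw [hca, hm2', show 6 * b = (3 * b) * 2 by ring, pow_mul 2 (3 * b) 2] at hS
        have hS' := cancel_two (Nat.le_self_pow (by have := hb.pos; omega) 2) hS
        refine ⟨?_, rfl, hm2', rfl⟩
        rw [hS']
        have h1 : Odd (3 * b) := Odd.mul (by decide) hbo
        have h2 := Odd.nat_add_dvd_pow_add_pow 2 1 h1
        rwa [one_pow] at h2
      · exfalso
        have hk1 : ka = 1 := hka1 fun m hm h => by
          have h1 : m = 6 := Nat.eq_of_mul_eq_mul_right hb.pos (hm.symm.trans hm2')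
          subst h1
          obtain ⟨c, hc⟩ := h
          have h2 : 3 ∣ 2 * b := ⟨c, by omega⟩
          have := hban h2
          omega
        subst hk1
        have hca : ca = 2 * b := by omega
        rw [hca, hm2', show 6 * b = (2 * b) * 3 by ring, pow_mul 2 (2 * b) 3] at hS
        have hS' := cancel_three (Nat.le_self_pow (by have := hb.pos; omega) 2) hS
        apply hnot
        rw [hS']
        have h1 : 2 ^ (2 * b) % 3 = 1 := by
          rw [pow_mul, Nat.pow_mod]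
          norm_num
        have h2 : (2 ^ (2 * b)) ^ 2 % 3 = 1 := by rw [Nat.pow_mod, h1]
        omega

theorem pigeon {r s x y z : ℕ} (hx : x = r ∨ x = s) (hy : y = r ∨ y = s) (hz : z = r ∨ z = s) (hxy : x ≠ y)
    (hxz : x ≠ z) (hyz : y ≠ z) : False := by omega

/-- **The arithmetic of Lemma Z.** -/
theorem numeric {ℓ n a b r s ca cb ka kb Sa Sb : ℕ} (hℓ : ℓ.Prime) (ha : a.Prime) (hb : b.Prime) (hab : a ≠ b)
    (hka : 1 ≤ ka) (hkb : 1 ≤ kb) (hna : n = ca * a ^ ka) (hnb : n = cb * b ^ kb) (hn : 0 < n)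
    (hSa : Sa * (ℓ ^ ca - 1) = ℓ ^ n - 1) (hSb : Sb * (ℓ ^ cb - 1) = ℓ ^ n - 1) (har : a ≠ r) (has : a ≠ s)
    (hbr : b ≠ r) (hbs : b ≠ s) (hA : ∀ t : ℕ, t.Prime → t ∣ Sa → t = r ∨ t = s)
    (hB : ∀ t : ℕ, t.Prime → t ∣ Sb → t = r ∨ t = s) (h6 : ¬ (ℓ = 2 ∧ n = 6)) : False := by
  have hnotA : ¬ a ∣ Sa := fun h => by rcases hA a ha h with h | h; exacts [har h, has h]
  have hnotB : ¬ b ∣ Sb := fun h => by rcases hB b hb h with h | h; exacts [hbr h, hbs h]
  have han : a ∣ n := by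
    rw [hna]
    exact Dvd.dvd.mul_left (dvd_pow_self a (by omega)) _
  have hbn : b ∣ n := by
    rw [hnb]
    exact Dvd.dvd.mul_left (dvd_pow_self b (by omega)) _
  have habn : a * b ∣ n := Nat.Coprime.mul_dvd_of_dvd_of_dvd ((Nat.coprime_primes ha hb).2 hab) han hbn
  have hge : 6 ≤ n := by
    have h1 := Nat.le_of_dvd hn habn
    have h2 := ha.two_le
    have h3 := hb.two_le
    rcases Nat.lt_or_ge a 3 with h | h
    · have : 3 ≤ b := by omega
      nlinarith
    · nlinarith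
  obtain ⟨z1, hz1, hz1m, -, -⟩ := Cfsg.Agent.Lib.Zsigmondy.exists_primitive (a := ℓ) (n := n) hℓ.two_le
    (by omega) (fun h => absurd h (by omega)) h6
  have hcan : ¬ n ∣ ca := by
    intro h
    have hca : 0 < ca := Nat.pos_of_ne_zero (by rintro rfl; omega)
    have h1 := Nat.le_of_dvd hca h
    have h2 : 2 ≤ a ^ ka := le_trans ha.two_le (Nat.le_self_pow (by omega) a)
    nlinarith
  have h1A : z1 = r ∨ z1 = s := by
    refine hA z1 hz1 ?_
    have h1 : z1 ∣ ℓ ^ n - 1 := (hz1m n).2 (dvd_refl n)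
    rw [← hSa] at h1
    exact (hz1.dvd_mul.1 h1).resolve_right fun h2 => hcan ((hz1m ca).1 h2)
  have hnd : ∀ p : ℕ, p.Prime → p ∣ n → ¬ n ∣ n / p := by
    intro p hp hpn h
    have h1 : 0 < n / p := Nat.div_pos (Nat.le_of_dvd hn hpn) hp.pos
    have h2 := Nat.le_of_dvd h1 h
    have h3 := Nat.div_lt_self hn hp.one_lt
    omega
  have hz1ne : ∀ (p z : ℕ), p.Prime → p ∣ n → (∀ m, z ∣ ℓ ^ m - 1 ↔ n / p ∣ m) → z1 ≠ z := by
    rintro p z hp hpn hz rfl
    exact hnd p hp hpn ((hz1m _).1 ((hz (n / p)).2 (dvd_refl _)))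
  rcases ex2 hℓ ha hb hab hka hna hbn hn hSa hnotA with ⟨z2, hz2, hz2S, hz2m⟩ | ⟨h3S, rfl, hn6, rfl⟩
  · rcases ex2 hℓ hb ha (Ne.symm hab) hkb hnb han hn hSb hnotB with ⟨z3, hz3, hz3S, hz3m⟩ | ⟨h3S, rfl, hn6, rfl⟩
    · refine pigeon h1A (hA z2 hz2 hz2S) (hB z3 hz3 hz3S) (hz1ne b z2 hb hbn hz2m) (hz1ne a z3 ha han hz3m) ?_
      rintro rfl
      have h1 : n / b ∣ n / a := (hz2m _).1 ((hz3m _).2 (dvd_refl _))
      have h2 : n / a ∣ n / b := (hz3m _).1 ((hz2m _).2 (dvd_refl _))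
      have h3 : n / a = n / b := Nat.dvd_antisymm h2 h1
      obtain ⟨x, hx⟩ := han
      obtain ⟨y, hy⟩ := hbn
      have h4 : n / a = x := by rw [hx, Nat.mul_div_cancel_left _ ha.pos]
      have h5 : n / b = y := by rw [hy, Nat.mul_div_cancel_left _ hb.pos]
      rw [h4, h5] at h3
      subst h3
      have h6 : a * x = b * x := hx.symm.trans hy
      have hx0 : 0 < x := Nat.pos_of_ne_zero (by rintro rfl; omega)
      exact hab (Nat.eq_of_mul_eq_mul_right hx0 h6)
    · -- `b = 2`, `n = 6 a`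
      refine pigeon h1A (hA z2 hz2 hz2S) (hB 3 Nat.prime_three h3S) (hz1ne 2 z2 hb hbn hz2m) ?_ ?_
      · rintro rfl
        have h1 := (hz1m 2).1 (by norm_num)
        have := Nat.le_of_dvd (by norm_num) h1
        omega
      · rintro rfl
        have h1 := (hz2m 2).1 (by norm_num)
        have := Nat.le_of_dvd (by norm_num) h1
        have := ha.two_le
        omega
  · -- `a = 2`, `n = 6 b`
    rcases ex2 hℓ hb ha (Ne.symm hab) hkb hnb han hn hSb hnotB with ⟨z3, hz3, hz3S, hz3m⟩ | ⟨-, -, hn6', hb2⟩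
    · refine pigeon h1A (hB z3 hz3 hz3S) (hA 3 Nat.prime_three h3S) (hz1ne 2 z3 ha han hz3m) ?_ ?_
      · rintro rfl
        have h1 := (hz1m 2).1 (by norm_num)
        have := Nat.le_of_dvd (by norm_num) h1
        omega
      · rintro rfl
        have h1 := (hz3m 2).1 (by norm_num)
        have := Nat.le_of_dvd (by norm_num) h1
        have := hb.two_le
        omega
    · exact hab hb2.symm

end Cfsg.Agent.H463.Deg
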