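import Cfsg.Agent.H463.Deg.FieldLemma
import Cfsg.Agent.H463.Deg.Num

/-!
# Lemma Z of S4921
-/

set_option autoImplicit false

namespace Cfsg.Agent.H463.Deg

open Cfsg.Agent.H273.PalfyKP Cfsg.Agent.H273.Palfy

universe u v

/-- a normal subgroup of order `z` -/
theorem exists_normal {H : Type u} [Group H] [Finite H] {V : Type v} [CommGroup V] [Finite V] [Nontrivial V]
    [MulDistribMulAction H V] {ℓ : ℕ} [hℓ : Fact ℓ.Prime] (hV : ∀ v : V, v ^ ℓ = 1)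
    (hf : ∀ h : H, (∀ v : V, h • v = v) → h = 1) {z : ℕ} [hz : Fact z.Prime] (hzℓ : ¬ z ∣ ℓ)
    (hirr : ∀ ζ : H, ζ ^ z = 1 → ζ ≠ 1 → ∀ U : Subgroup V, (∀ u ∈ U, ζ • u ∈ U) → U = ⊥ ∨ U = ⊤)
    (hR : Cfsg.pCore z H ≠ ⊥) : ∃ ζ : H, ζ ^ z = 1 ∧ ζ ≠ 1 ∧ ∀ α : H, α * ζ * α⁻¹ ∈ Subgroup.zpowers ζ := by
  let L : Subgroup H :=
    { carrier := {x | x ∈ Cfsg.pCore z H ∧ x ^ z = 1 ∧ ∀ y ∈ Cfsg.pCore z H, x * y = y * x}
      mul_mem' := by
        rintro x y ⟨hx1, hx2, hx3⟩ ⟨hy1, hy2, hy3⟩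
        refine ⟨Subgroup.mul_mem _ hx1 hy1, ?_, ?_⟩
        · rw [(show Commute x y from hx3 y hy1).mul_pow, hx2, hy2, one_mul]
        · intro w hw
          rw [mul_assoc, hy3 w hw, ← mul_assoc, hx3 w hw, mul_assoc]
      one_mem' := ⟨Subgroup.one_mem _, one_pow z, fun y _ => by rw [one_mul, mul_one]⟩
      inv_mem' := by
        rintro x ⟨hx1, hx2, hx3⟩
        refine ⟨Subgroup.inv_mem _ hx1, by rw [inv_pow, hx2, inv_one], fun y hy => ?_⟩
        exact ((show Commute x y from hx3 y hy).inv_left).eq }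
  have hLm : ∀ x, x ∈ L ↔ x ∈ Cfsg.pCore z H ∧ x ^ z = 1 ∧ ∀ y ∈ Cfsg.pCore z H, x * y = y * x := fun x => Iff.rfl
  have hRn : (Cfsg.pCore z H).Normal := Cfsg.Agent.Lib.Cores.pCore_normal z
  have hLn : L.Normal := by
    constructor
    intro x hx g
    rw [hLm] at hx ⊢
    refine ⟨hRn.conj_mem x hx.1 g, by rw [conj_pow, hx.2.1]; group, fun y hy => ?_⟩
    have h1 := hx.2.2 (g⁻¹ * y * g) (by have := hRn.conj_mem y hy g⁻¹; simpa using this)
    calc g * x * g⁻¹ * y = g * (x * (g⁻¹ * y * g)) * g⁻¹ := by group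
      _ = g * ((g⁻¹ * y * g) * x) * g⁻¹ := by rw [h1]
      _ = y * (g * x * g⁻¹) := by group
  obtain ⟨ζ, hζL, hζ1⟩ : ∃ ζ ∈ L, ζ ≠ 1 := by
    have hnt : Nontrivial (Cfsg.pCore z H) := (Subgroup.nontrivial_iff_ne_bot _).2 hR
    have hP : IsPGroup z (Cfsg.pCore z H) := Cfsg.Agent.Lib.Cores.pCore_isPGroup z
    have hcn : Nontrivial (Subgroup.center (Cfsg.pCore z H)) := hP.center_nontrivial
    have hPc : IsPGroup z (Subgroup.center (Cfsg.pCore z H)) := hP.to_subgroup _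
    obtain ⟨k, hk⟩ := IsPGroup.iff_card.1 hPc
    have hzd : z ∣ Nat.card (Subgroup.center (Cfsg.pCore z H)) := by
      rcases Nat.eq_zero_or_pos k with h | h
      · exfalso
        rw [h, pow_zero] at hk
        have := Finite.one_lt_card (α := Subgroup.center (Cfsg.pCore z H))
        omega
      · rw [hk]
        exact dvd_pow_self z (by omega)
    obtain ⟨x, hx⟩ := exists_prime_orderOf_dvd_card' z hzd
    refine ⟨((x : Cfsg.pCore z H) : H), ?_, ?_⟩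
    · rw [hLm]
      refine ⟨(x : Cfsg.pCore z H).2, ?_, ?_⟩
      · have h1 : x ^ z = 1 := orderOf_dvd_iff_pow_eq_one.1 hx.dvd
        have h2 := congrArg (fun t : Subgroup.center (Cfsg.pCore z H) => ((t : Cfsg.pCore z H) : H)) h1
        simpa using h2
      · intro y hy
        have h1 := Subgroup.mem_center_iff.1 x.2 ⟨y, hy⟩
        exact (congrArg Subtype.val h1).symm
    · intro h
      have hx1 : x = 1 := Subtype.ext (Subtype.ext h)
      rw [hx1, orderOf_one] at hx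
      exact hz.out.one_lt.ne hx
  have hζ := (hLm ζ).1 hζL
  refine ⟨ζ, hζ.2.1, hζ1, fun α => ?_⟩
  have h1 := hLn.conj_mem ζ hζL α
  exact mem_zpowers hV hf hz.out hzℓ (hirr ζ hζ.2.1 hζ1) hζ.2.1 hζ1 ((hLm _).1 h1).2.1
    (((hLm _).1 h1).2.2 ζ hζ.1)

/-- the orders of the fixed point spaces -/
theorem card_of_sylow {H : Type u} [Group H] [Finite H] {V : Type v} [CommGroup V] [Finite V] [Nontrivial V]
    [MulDistribMulAction H V] {ℓ : ℕ} [hℓ : Fact ℓ.Prime] (hV : ∀ v : V, v ^ ℓ = 1)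
    (hf : ∀ h : H, (∀ v : V, h • v = v) → h = 1) {n : ℕ} (hcard : Nat.card V = ℓ ^ n) {ζ : H}
    (hirr : ∀ U : Subgroup V, (∀ u ∈ U, ζ • u ∈ U) → U = ⊥ ∨ U = ⊤)
    (hζn : ∀ α : H, α * ζ * α⁻¹ ∈ Subgroup.zpowers ζ) {p : ℕ} [hp : Fact p.Prime] (hU : UniqueSylow p H V)
    (hnt : ∃ A : Sylow p H, ∃ h ∈ (A : Subgroup H), ∃ v : V, h • v ≠ v) :
    ∃ c k, 1 ≤ k ∧ n = c * p ^ k ∧ Nat.card (Sylow p H) * (ℓ ^ c - 1) = ℓ ^ n - 1 := by
  obtain ⟨c, -, -, hcA, hcc, hpH⟩ := data hV hcard hU hnt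
  obtain ⟨A, -⟩ := hnt
  have h1 := one_lt_card_fixV hU A
  have hntf : Nontrivial (fixV A.1 V) := Finite.one_lt_card_iff_nontrivial.1 h1
  obtain ⟨v₀, hv₀⟩ := exists_ne (1 : fixV A.1 V)
  have h2 := field_lemma hf hirr A.1 (fun α _ => hζn α) (fun α hα hc =>
    eq_one_of_commute hf hirr hc (fun h => hv₀ (Subtype.ext h)) (v₀.2 α hα)) (v₀ := (v₀ : V))
    (fun h => hv₀ (Subtype.ext h)) (fun α hα => v₀.2 α hα)
  obtain ⟨k, hk⟩ := IsPGroup.iff_card.1 A.2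
  have hk1 : 1 ≤ k := by
    rcases Nat.eq_zero_or_pos k with h3 | h3
    · exfalso
      have h4 := A.dvd_card_of_dvd_card hpH
      have h5 : Nat.card (A : Subgroup H) = p ^ k := hk
      rw [h5, h3, pow_zero] at h4
      exact hp.out.one_lt.ne' (Nat.dvd_one.1 h4)
    · exact h3
  refine ⟨c, k, hk1, ?_, hcc⟩
  rw [hcard, hcA A, ← pow_mul, hk] at h2
  exact Nat.pow_right_injective hℓ.out.two_le h2

/-- Lemma Z, faithful case -/
theorem lemmaZ_faithful {H : Type u} [Group H] [Finite H] {V : Type v} [CommGroup V] [Finite V] [Nontrivial V]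
    [MulDistribMulAction H V] {a b ℓ r s : ℕ} [ha : Fact a.Prime] [hb : Fact b.Prime] [hℓ : Fact ℓ.Prime]
    (hsol : Group.IsSolvable H) (hab : a ≠ b) (hV : ∀ v : V, v ^ ℓ = 1)
    (hirrH : ∀ W : Subgroup V, (∀ h : H, ∀ w ∈ W, h • w ∈ W) → W = ⊥ ∨ W = ⊤)
    (hUa : UniqueSylow a H V) (hUb : UniqueSylow b H V)
    (hna : ∃ A : Sylow a H, ∃ h ∈ (A : Subgroup H), ∃ v : V, h • v ≠ v)
    (hnb : ∃ B : Sylow b H, ∃ h ∈ (B : Subgroup H), ∃ v : V, h • v ≠ v)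
    (har : a ≠ r) (has : a ≠ s) (hbr : b ≠ r) (hbs : b ≠ s)
    (hA : ∀ t : ℕ, t.Prime → t ∣ Nat.card (Sylow a H) → t = r ∨ t = s)
    (hB : ∀ t : ℕ, t.Prime → t ∣ Nat.card (Sylow b H) → t = r ∨ t = s)
    (hf : ∀ h : H, (∀ v : V, h • v = v) → h = 1) : False := by
  obtain ⟨n, hcard⟩ : ∃ n, Nat.card V = ℓ ^ n := by
    have h1 : IsPGroup ℓ V := fun v => ⟨1, by rw [pow_one]; exact hV v⟩
    exact IsPGroup.iff_card.1 h1
  by_cases h2 : n = 2
  · subst h2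
    exact hab ((case_two hV hcard hUa hna).trans (case_two hV hcard hUb hnb).symm)
  by_cases h6 : ℓ = 2 ∧ n = 6
  · obtain ⟨rfl, rfl⟩ := h6
    obtain ⟨h3, -⟩ := primes_64 hV hcard hUa hna
    obtain ⟨h4, -⟩ := primes_64 hV hcard hUb hnb
    rcases h3 with rfl | rfl | rfl
    · rcases h4 with rfl | rfl | rfl
      · exact hab rfl
      · exact case_five hV hf hcard hUb hnb hUa hna
      · exact not_31 hsol hV hf hirrH hcard hUb hnb
    · rcases h4 with rfl | rfl | rfl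
      · exact case_five hV hf hcard hUa hna hUb hnb
      · exact hab rfl
      · exact not_31 hsol hV hf hirrH hcard hUb hnb
    · exact not_31 hsol hV hf hirrH hcard hUa hna
  obtain ⟨c, hc1, hcn, hcA, hcc, haH⟩ := data hV hcard hUa hna
  obtain ⟨-, -, -, -, -, hbH⟩ := data hV hcard hUb hnb
  obtain ⟨z, hz, hzn, hnz, hzℓ⟩ := Cfsg.Agent.Lib.Zsigmondy.exists_primitive (a := ℓ) (n := n) hℓ.out.two_le
    (by omega) (fun h => absurd h h2) h6
  have hzf : Fact z.Prime := ⟨hz⟩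
  have hzS : z ∣ Nat.card (Sylow a H) := by
    have h3 : z ∣ ℓ ^ n - 1 := (hzn n).2 (dvd_refl n)
    rw [← hcc] at h3
    refine (hz.dvd_mul.1 h3).resolve_right fun h4 => ?_
    have := Nat.le_of_dvd (by omega) ((hzn c).1 h4)
    omega
  have hzH : z ∣ Nat.card H := by
    obtain ⟨A, -⟩ := hna
    exact (hzS.trans (Sylow.card_dvd_index A)).trans (Subgroup.index_dvd_card _)
  have hirr : ∀ ζ : H, ζ ^ z = 1 → ζ ≠ 1 → ∀ U : Subgroup V, (∀ u ∈ U, ζ • u ∈ U) → U = ⊥ ∨ U = ⊤ :=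
    fun ζ h1 h2 U hU => irreducible hV hf hcard hzn hzℓ ζ h1 h2 U hU
  by_cases hR : Cfsg.pCore z H = ⊥
  swap
  · obtain ⟨ζ, hζ, hζ1, hζn⟩ := exists_normal hV hf hzℓ hirr hR
    obtain ⟨ca, ka, hka, hna', hSa⟩ := card_of_sylow hV hf hcard (hirr ζ hζ hζ1) hζn hUa hna
    obtain ⟨cb, kb, hkb, hnb', hSb⟩ := card_of_sylow hV hf hcard (hirr ζ hζ hζ1) hζn hUb hnb
    exact numeric hℓ.out ha.out hb.out hab hka hkb hna' hnb' (by omega) hSa hSb har has hbr hbs hA hB h6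
  obtain ⟨ζ, hζo⟩ := exists_prime_orderOf_dvd_card' z hzH
  have hζ : ζ ^ z = 1 := orderOf_dvd_iff_pow_eq_one.1 hζo.dvd
  have hζ1 : ζ ≠ 1 := by
    intro h
    rw [h, orderOf_one] at hζo
    exact hz.one_lt.ne hζo
  obtain ⟨s, hs, g, hg, hgne⟩ := exists_not_central hsol hR ζ hζ hζ1
  have hbot : ∀ q, Cfsg.pCore q H = ⊥ → s ≠ q := by
    rintro q hq rfl
    rw [hq, Subgroup.mem_bot] at hg
    apply hgne
    rw [hg]
    group
  have hsz := hbot z hR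
  have hsℓ := hbot ℓ (pCore_char_eq_bot hV hf hirrH)
  have hnz' : n < z := by
    have := Nat.le_of_dvd (by have := hz.two_le; omega) hnz
    have := hz.two_le
    omega
  obtain ⟨rfl, hz1, m, hm⟩ := cent_pgroup hV hf hcard ζ hz hζ hnz' hs hsz hsℓ (Cfsg.pCore s H)
    (Cfsg.Agent.Lib.Cores.pCore_isPGroup s)
    (fun g hg => (Cfsg.Agent.Lib.Cores.pCore_normal s).conj_mem g hg ζ) ⟨g, hg, hgne⟩
  have hzm : z = 2 ^ m + 1 := by rw [hz1, hm]
  have ha2 := hbot a (pCore_eq_bot hf hUa)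
  have hb2 := hbot b (pCore_eq_bot hf hUb)
  by_cases haℓ : a = ℓ
  · exact hall_case hsol hV hf hcard hb2.symm (fun h => hab (haℓ.trans h.symm)) hUb hbH hzℓ hzH hnz' hirr hzm
  · exact hall_case hsol hV hf hcard ha2.symm haℓ hUa haH hzℓ hzH hnz' hirr hzm

/-- **Lemma Z of S4921.** -/
theorem lemmaZ {H : Type u} [Group H] [Finite H] {V : Type v} [CommGroup V] [Finite V] [Nontrivial V]
    [MulDistribMulAction H V] {a b ℓ r s : ℕ} [ha : Fact a.Prime] [hb : Fact b.Prime] [hℓ : Fact ℓ.Prime]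
    (hsol : Group.IsSolvable H) (hab : a ≠ b) (hV : ∀ v : V, v ^ ℓ = 1)
    (hirr : ∀ W : Subgroup V, (∀ h : H, ∀ w ∈ W, h • w ∈ W) → W = ⊥ ∨ W = ⊤)
    (hUa : UniqueSylow a H V) (hUb : UniqueSylow b H V)
    (hna : ∃ A : Sylow a H, ∃ h ∈ (A : Subgroup H), ∃ v : V, h • v ≠ v)
    (hnb : ∃ B : Sylow b H, ∃ h ∈ (B : Subgroup H), ∃ v : V, h • v ≠ v)
    (har : a ≠ r) (has : a ≠ s) (hbr : b ≠ r) (hbs : b ≠ s)
    (hA : ∀ t : ℕ, t.Prime → t ∣ Nat.card (Sylow a H) → t = r ∨ t = s)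
    (hB : ∀ t : ℕ, t.Prime → t ∣ Nat.card (Sylow b H) → t = r ∨ t = s) : False := by
  let f : H →* MulAut V := MulDistribMulAction.toMulAut H V
  let φ : H →* H ⧸ f.ker := QuotientGroup.mk' f.ker
  have hφ : Function.Surjective φ := QuotientGroup.mk'_surjective _
  let _ : MulDistribMulAction (H ⧸ f.ker) V := MulDistribMulAction.compHom V (QuotientGroup.kerLift f)
  have hc : ∀ (h : H) (v : V), φ h • v = h • v := fun h v => rfl
  have hnt : ∀ p, Fact p.Prime → (∃ A : Sylow p H, ∃ h ∈ (A : Subgroup H), ∃ v : V, h • v ≠ v) →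
      ∃ A : Sylow p (H ⧸ f.ker), ∃ h ∈ (A : Subgroup (H ⧸ f.ker)), ∃ v : V, h • v ≠ v := by
    rintro p hp ⟨A, h, hh, v, hv⟩
    exact ⟨A.mapSurjective hφ, φ h, ⟨h, hh, rfl⟩, v, hv⟩
  have hcardS : ∀ p, Fact p.Prime → UniqueSylow p H V → Nat.card (Sylow p (H ⧸ f.ker)) = Nat.card (Sylow p H) := by
    intro p hp hU
    obtain ⟨P⟩ : Nonempty (Sylow p H) := inferInstance
    have h1 := card_partition hU P
    have h2 := card_partition (uniqueSylow_map φ hφ hc hU) (P.mapSurjective hφ)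
    have h3 : fixV ((P.mapSurjective hφ : Sylow p (H ⧸ f.ker)) : Subgroup (H ⧸ f.ker)) V = fixV P.1 V := by
      ext v
      constructor
      · intro hv h hh
        exact hv (φ h) ⟨h, hh, rfl⟩
      · rintro hv _ ⟨h, hh, rfl⟩
        exact hv h hh
    have h4 := one_lt_card_fixV hU P
    have h3' : fixV (P.mapSurjective hφ : Sylow p (H ⧸ f.ker)).1 V = fixV P.1 V := h3
    rw [h3'] at h2
    exact Nat.eq_of_mul_eq_mul_right (by omega) (h2.trans h1.symm)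
  refine lemmaZ_faithful (H := H ⧸ f.ker) (V := V) (a := a) (b := b) (ℓ := ℓ) (r := r) (s := s) inferInstance hab hV
    (fun W hW => hirr W fun h w hw => hW (φ h) w hw) (uniqueSylow_map φ hφ hc hUa) (uniqueSylow_map φ hφ hc hUb)
    (hnt a inferInstance hna) (hnt b inferInstance hnb) har has hbr hbs
    (by rw [hcardS a inferInstance hUa]; exact hA) (by rw [hcardS b inferInstance hUb]; exact hB) (by
      intro x hx
      obtain ⟨h, rfl⟩ := hφ x
      rw [QuotientGroup.mk'_apply, QuotientGroup.eq_one_iff, MonoidHom.mem_ker]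
      apply MulEquiv.ext
      intro v
      exact hx v)

end Cfsg.Agent.H463.Deg
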